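import Cfsg.Agent.Classical.Unitary.ThreeTransposition
import Cfsg.Agent.ThreeTransposition.Classes

/-!
The class of 3-transpositions of `PSU(6, 2)` consists of the transvections, and the members commuting with everything
that commutes with two given commuting ones are the five transvections of a totally isotropic line, with product one.
-/

set_option autoImplicit false
set_option linter.unusedSectionVars false
set_option linter.style.haveILetI false

namespace Cfsg.Lib.ThreeTr

open Cfsg Subgroup Cfsg.Lib.Classical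

universe u v w

/-- Members commuting with everything that commutes with `x` and `y`. -/
def dperp {Q : Type*} [Group Q] (S : Set Q) (x y : Q) : Set Q :=
  {w | w ∈ S ∧ ∀ s ∈ S, Commute s x → Commute s y → Commute s w}

/-- Two commuting members lie in five commuting members with product one, the whole double perp of the two. -/
def LineProp {Q : Type*} [Group Q] (S : Set Q) : Prop :=
  ∀ x ∈ S, ∀ y ∈ S, x ≠ y → Commute x y →
    ∃ l : List Q, l.Nodup ∧ l.length = 5 ∧ (∀ w, w ∈ l ↔ w ∈ dperp S x y) ∧ l.prod = 1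

variable {F : Type u} [Field F] {V : Type v} [AddCommGroup V] [Module F V] {H : HermSpace F V}

/-- A hermitian space of dimension six over the field with four elements. -/
structure IsSixSpace (H : HermSpace F V) : Prop where
  two : (2 : F) = 0
  norm : ∀ a : F, a ≠ 0 → a * H.σ a = 1
  dim : Module.finrank F V = 6

namespace IsSixSpace

variable (hS : IsSixSpace H)
include hS

theorem add_self (a : F) : a + a = 0 := by linear_combination a * hS.two

theorem vadd_self (x : V) : x + x = 0 := by rw [← two_smul F x, hS.two, zero_smul]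

theorem three : (3 : F) = 1 := by linear_combination hS.two

theorem five : (5 : F) = 1 := by linear_combination (2 : F) * hS.two

theorem four : (4 : F) = 0 := by linear_combination (2 : F) * hS.two

theorem skew : (1 : F) + H.σ 1 = 0 := by rw [map_one]; exact hS.add_self 1

theorem self_eq_one {x : V} (h : H.h x x ≠ 0) : H.h x x = 1 := by
  have h1 := hS.norm _ h
  rw [H.self_fixed] at h1
  have h3 : (H.h x x + 1) * (H.h x x + 1) = 0 := by linear_combination h1 + (H.h x x + 1) * hS.two
  linear_combination mul_self_eq_zero.mp h3 - hS.two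

theorem fd : FiniteDimensional F V :=
  FiniteDimensional.of_finrank_pos (by rw [hS.dim]; norm_num)

theorem center_scalar [Finite F] {g : H.SIsom} (hg : g ∈ center H.SIsom) :
    ∃ z : F, z ≠ 0 ∧ ∀ x, g.1.1 x = z • x := by
  haveI := hS.fd
  obtain ⟨z, hz, -, h⟩ := (H.mem_center_SIsom_iff (by rw [hS.dim]; norm_num)).1 hg
  exact ⟨z, left_ne_zero_of_mul_eq_one hz, h⟩

/-- The transvection at an isotropic vector. -/
noncomputable def tv {v : V} (hv : H.h v v = 0) : H.SIsom := H.sT hv hS.skew

theorem tv_apply {v : V} (hv : H.h v v = 0) (x : V) : (hS.tv hv).1.1 x = x + H.h x v • v := by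
  rw [tv, H.sT_apply, one_mul]

theorem tv_mem {v : V} (hv : H.h v v = 0) (hv0 : v ≠ 0) : hS.tv hv ∈ H.oneTransv :=
  ⟨v, hv0, hv, hS.tv_apply hv⟩

theorem exists_tv {t : H.SIsom} (ht : t ∈ H.oneTransv) :
    ∃ (v : V) (hv : H.h v v = 0), v ≠ 0 ∧ t = hS.tv hv := by
  obtain ⟨v, hv0, hv, h⟩ := ht
  exact ⟨v, hv, hv0, H.sisom_ext fun x => by rw [h, hS.tv_apply]⟩

theorem cls [Finite F] : IsThreeTranspositionClass H.oneTransv := by
  haveI := hS.fd
  exact HermSpace.threeTransposition (by rw [hS.dim]; norm_num) hS.two hS.norm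

theorem tv_commute {v w : V} (hv : H.h v v = 0) (hw : H.h w w = 0) (h : H.h v w = 0) :
    Commute (hS.tv hv) (hS.tv hw) := by
  refine H.sisom_ext fun x => ?_
  rw [HermSpace.smul_mul_apply, HermSpace.smul_mul_apply, tv_apply, tv_apply, tv_apply, tv_apply,
    H.add_left, H.smul_left, H.add_left, H.smul_left, H.eq_zero_symm h, h, mul_zero, mul_zero, add_zero,
    add_zero]
  abel

theorem tv_smul {v : V} (hv : H.h v v = 0) {a : F} (ha : a ≠ 0) (hav : H.h (a • v) (a • v) = 0) :
    hS.tv hav = hS.tv hv := H.sisom_ext fun x => by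
  rw [tv_apply, tv_apply, H.smul_right, smul_smul]
  congr 2
  linear_combination (H.h x v) * hS.norm a ha

theorem tv_congr {v w : V} (hv : H.h v v = 0) (hw : H.h w w = 0) (e : v = w) : hS.tv hv = hS.tv hw :=
  H.sT_congr hv hw hS.skew hS.skew e rfl

/-- An element with `M` and `M * M = 1` acting as `1 + N`, `N` of rank above one, is not in the class. -/
theorem exists_bad_conjugate [Finite F] {T : H.SIsom} (hT : T * T = 1) (hT1 : T ≠ 1) (hnT : T ∉ H.oneTransv) :
    ∃ g : H.SIsom, ∀ z ∈ center H.SIsom, (T * (g * T * g⁻¹)) ^ 2 ≠ z ∧ (T * (g * T * g⁻¹)) ^ 3 ≠ z := by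
  haveI := hS.fd
  have hTT : ∀ x, T.1.1 (T.1.1 x) = x := fun x => by
    rw [← HermSpace.smul_mul_apply, hT]; rfl
  have hTs : ∀ x y, H.h (T.1.1 x) y = H.h x (T.1.1 y) := fun x y => by
    conv_lhs => rw [← hTT y]
    exact H.map_form T.1 x (T.1.1 y)
  set N : V → V := fun x => T.1.1 x + x with hNdef
  set B : V → V → F := fun x y => H.h (N x) y with hBdef
  have hTN : ∀ x, T.1.1 x = x + N x := fun x => by
    rw [hNdef]; simp only
    rw [add_comm (T.1.1 x) x, ← add_assoc, hS.vadd_self, zero_add]
  have hNadd : ∀ x y, N (x + y) = N x + N y := fun x y => by simp only [hNdef, map_add]; abel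
  have hNsmul : ∀ (a : F) x, N (a • x) = a • N x := fun a x => by simp only [hNdef, map_smul, smul_add]
  have hNN : ∀ x, N (N x) = 0 := fun x => by
    simp only [hNdef, map_add, hTT]
    rw [add_comm x, hS.vadd_self]
  have hBs : ∀ x y, B x y = H.h x (N y) := fun x y => by
    simp only [hBdef, hNdef, H.add_left, H.add_right, hTs]
  have hBsymm : ∀ x y, B y x = H.σ (B x y) := fun x y => by
    rw [hBs x y, ← H.symm]
  have hWW : ∀ x y, H.h (N x) (N y) = 0 := fun x y => by
    rw [← hBs]; simp only [hBdef, hNN, H.zero_left]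
  obtain ⟨θ, hθ⟩ := H.conj.exists_trace_one
  have hfix : ∀ x, B x x ≠ 0 → B x x = 1 := fun x hx => by
    have h1 := hS.norm _ hx
    rw [← hBsymm] at h1
    have h3 : (B x x + 1) * (B x x + 1) = 0 := by linear_combination h1 + (B x x + 1) * hS.two
    linear_combination mul_self_eq_zero.mp h3 - hS.two
  -- a first vector
  obtain ⟨x₁, hx₁⟩ : ∃ x, B x x ≠ 0 := by
    by_contra hc
    push Not at hc
    refine hT1 (H.sisom_ext fun x => ?_)
    show T.1.1 x = x
    suffices N x = 0 by rw [hTN, this, add_zero]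
    by_contra hN
    obtain ⟨u, hu⟩ := H.exists_partner hN
    have hu' : B x u = 1 := hu
    have := hc (θ • x + u)
    simp only [hBdef, hNadd, hNsmul, H.add_left, H.add_right, H.smul_left, H.smul_right] at this
    change θ * (H.σ θ * B x x) + H.σ θ * B u x + (θ * B x u + B u u) = 0 at this
    rw [hc, hc, hBsymm x u, hu', map_one] at this
    exact one_ne_zero (show (1 : F) = 0 by linear_combination this - hθ)
  have hx₁1 := hfix _ hx₁
  set a := N x₁ with hadef
  have haa : H.h a a = 0 := hWW _ _
  have ha0 : a ≠ 0 := fun e => by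
    rw [show B x₁ x₁ = H.h a x₁ from rfl, e, H.zero_left] at hx₁1
    exact zero_ne_one hx₁1
  -- a second vector
  set B' : V → V → F := fun y z => B y z + B y x₁ * B x₁ z with hB'def
  obtain ⟨w, hw⟩ : ∃ w, B' w w ≠ 0 := by
    by_contra hc
    push Not at hc
    have hall : ∀ y z, B' y z = 0 := by
      intro y z
      by_contra hne
      set e := (B' y z)⁻¹ with hedef
      have he : e * B' y z = 1 := inv_mul_cancel₀ hne
      have hzy : B' z y = H.σ (B' y z) := by
        simp only [hB'def, map_add, map_mul, ← hBsymm]; ring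
      have := hc ((θ * e) • y + z)
      have expand : B' ((θ * e) • y + z) ((θ * e) • y + z) =
          (θ * e) * (H.σ (θ * e) * B' y y) + (θ * e) * B' y z + (H.σ (θ * e) * B' z y + B' z z) := by
        simp only [hB'def, hBdef, hNadd, hNsmul, H.add_left, H.add_right, H.smul_left, H.smul_right]
        ring
      rw [expand, hc, hc, hzy, map_mul] at this
      have he' : H.σ e * H.σ (B' y z) = 1 := by rw [← map_mul, he, map_one]
      exact one_ne_zero (show (1 : F) = 0 by
        linear_combination this - hθ - θ * he - H.σ θ * he')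
    refine hnT ⟨a, ha0, haa, fun y => ?_⟩
    rw [hTN]
    congr 1
    refine H.ext_of_forall fun z => ?_
    rw [H.smul_right, ← H.symm a y, ← hBs, show H.h a y = B x₁ y from rfl, show H.h z a = B z x₁ from (hBs z x₁).symm]
    have := hall z y
    simp only [hB'def] at this
    linear_combination this - (B z x₁ * B x₁ y) * hS.two
  set x₂ := w + B w x₁ • x₁ with hx₂def
  have hx21 : B x₂ x₁ = 0 := by
    simp only [hBdef, hx₂def, hNadd, hNsmul, H.add_left, H.smul_left]
    change B w x₁ + B w x₁ * B x₁ x₁ = 0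
    rw [hx₁1, mul_one, hS.add_self]
  have hx12 : B x₁ x₂ = 0 := by rw [hBsymm, hx21, map_zero]
  have hx22 : B x₂ x₂ = 1 := by
    refine hfix _ fun h => hw ?_
    rw [show B x₂ x₂ = H.h (N x₂) x₂ from rfl] at h
    simp only [hx₂def, hNadd, hNsmul, H.add_left, H.add_right, H.smul_left, H.smul_right] at h
    change B w w + H.σ (B w x₁) * B w x₁ + (B w x₁ * B x₁ w + B w x₁ * (H.σ (B w x₁) * B x₁ x₁)) = 0 at h
    rw [hx₁1, mul_one, ← hBsymm] at h
    simp only [hB'def]
    linear_combination h - (B w x₁ * B x₁ w) * hS.two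
  set b := N x₂ with hbdef
  have hbb : H.h b b = 0 := hWW _ _
  have hab : H.h a b = 0 := hWW _ _
  have hba : H.h b a = 0 := hWW _ _
  have hax1 : H.h a x₁ = 1 := hx₁1
  have hax2 : H.h a x₂ = 0 := hx12
  have hbx1 : H.h b x₁ = 0 := hx21
  have hbx2 : H.h b x₂ = 1 := hx22
  have hx1a : H.h x₁ a = 1 := by rw [H.symm, hax1, map_one]
  have hx2a : H.h x₂ a = 0 := H.eq_zero_symm hax2
  have hx1b : H.h x₁ b = 0 := H.eq_zero_symm hbx1
  have hx2b : H.h x₂ b = 1 := by rw [H.symm, hbx2, map_one]
  set c := x₁ + x₂ + (θ * H.h (x₁ + x₂) (x₁ + x₂)) • a with hcdef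
  have hca : H.h c a = 1 := by
    simp only [hcdef, H.add_left, H.smul_left, hx1a, hx2a, haa, mul_zero, add_zero]
  have hcb : H.h c b = 1 := by
    simp only [hcdef, H.add_left, H.smul_left, hx1b, hx2b, hab, mul_zero, zero_add, add_zero]
  have hac : H.h a c = 1 := by rw [H.symm, hca, map_one]
  have hbc : H.h b c = 1 := by rw [H.symm, hcb, map_one]
  have hcc : H.h c c = 0 := by
    set y := x₁ + x₂ with hy
    have h1 : H.h y a = 1 := by simp only [hy, H.add_left, hx1a, hx2a, add_zero]
    have h2 : H.h a y = 1 := by rw [H.symm, h1, map_one]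
    simp only [hcdef, H.add_left, H.add_right, H.smul_left, H.smul_right, haa, h1, h2, map_mul,
      H.self_fixed]
    linear_combination (H.h y y) * hθ + (H.h y y) * hS.two
  set β := θ * H.h x₂ x₂ with hβdef
  set d := x₂ + (H.h x₂ c + β) • a + β • b with hddef
  have hda : H.h d a = 0 := by
    simp only [hddef, H.add_left, H.smul_left, hx2a, haa, hba, mul_zero, add_zero]
  have hdb : H.h d b = 1 := by
    simp only [hddef, H.add_left, H.smul_left, hx2b, hab, hbb, mul_zero, add_zero]
  have hdc : H.h d c = 0 := by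
    simp only [hddef, H.add_left, H.smul_left, hac, hbc]
    linear_combination (H.h x₂ c + β) * hS.two
  have hdd : H.h d d = 0 := by
    simp only [hddef, H.add_left, H.add_right, H.smul_left, H.smul_right, haa, hab, hba, hbb, hax2, hx2a,
      hbx2, hx2b, mul_zero, add_zero, zero_add]
    simp only [hβdef, map_mul, H.self_fixed]
    linear_combination (H.h x₂ x₂) * hθ + (H.h x₂ x₂) * hS.two
  have had : H.h a d = 0 := H.eq_zero_symm hda
  have hbd : H.h b d = 1 := by rw [H.symm, hdb, map_one]
  have hcd : H.h c d = 0 := H.eq_zero_symm hdc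
  set ta := hS.tv haa with hta
  set tb := hS.tv hbb with htb
  set tc := hS.tv hcc with htc
  set td := hS.tv hdd with htd
  set R := T * ta * tb with hRdef
  have hcl := hS.cls
  have hE := hcl.1
  have sq : ∀ {v : V} (hv : H.h v v = 0), hS.tv hv * hS.tv hv = 1 := fun {v} hv => H.sisom_ext fun x => by
    rw [HermSpace.smul_mul_apply, tv_apply, tv_apply, H.add_left, H.smul_left, hv, mul_zero, add_zero, add_assoc,
      hS.vadd_self, add_zero]
    rfl
  have hR : ∀ y, H.h y a = 0 → H.h y b = 0 → R.1.1 y = T.1.1 y := by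
    intro y h1 h2
    rw [hRdef, htb, hta, HermSpace.smul_mul_apply, HermSpace.smul_mul_apply, hS.tv_apply hbb, h2, zero_smul, add_zero,
      hS.tv_apply haa, h1, zero_smul, add_zero]
  have hRa : R.1.1 a = a := by rw [hR a haa hab, hTN, hadef, hNN, add_zero]
  have hRb : R.1.1 b = b := by rw [hR b hba hbb, hTN, hbdef, hNN, add_zero]
  have hR1 : R.1.1 x₁ = x₁ := by
    rw [hRdef, htb, hta, HermSpace.smul_mul_apply, HermSpace.smul_mul_apply, hS.tv_apply hbb, hx1b, zero_smul, add_zero,
      hS.tv_apply haa, hx1a, one_smul, map_add, hTN x₁, hTN a, hadef, hNN, add_zero, add_assoc, hS.vadd_self,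
      add_zero]
  have hR2 : R.1.1 x₂ = x₂ := by
    rw [hRdef, htb, hta, HermSpace.smul_mul_apply, HermSpace.smul_mul_apply, hS.tv_apply hbb, hx2b, one_smul, map_add,
      hS.tv_apply haa, hx2a, zero_smul, add_zero, hS.tv_apply haa, hba, zero_smul, add_zero, map_add, hTN x₂, hTN b,
      hbdef, hNN, add_zero, add_assoc, hS.vadd_self, add_zero]
  have hRc : R.1.1 c = c := by simp only [hcdef, map_add, map_smul, hR1, hR2, hRa]
  have hRd : R.1.1 d = d := by simp only [hddef, map_add, map_smul, hR2, hRa, hRb]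
  have hcomR : ∀ (R : H.SIsom) {v : V} (hv : H.h v v = 0), R.1.1 v = v → Commute R (hS.tv hv) := fun R {v} hv hRv =>
    H.sisom_ext fun x => by
      rw [HermSpace.smul_mul_apply, HermSpace.smul_mul_apply, tv_apply, tv_apply, map_add, map_smul, hRv]
      congr 2
      conv_rhs => rw [← hRv]
      rw [H.map_form]
  have cRa : Commute R ta := hcomR R haa hRa
  have cRb : Commute R tb := hcomR R hbb hRb
  have cRc : Commute R tc := hcomR R hcc hRc
  have cRd : Commute R td := hcomR R hdd hRd
  have cab : Commute ta tb := hS.tv_commute haa hbb hab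
  have cad : Commute ta td := hS.tv_commute haa hdd had
  have ccd : Commute tc td := hS.tv_commute hcc hdd hcd
  have braid : ∀ {v w : V} (hv : H.h v v = 0) (hw : H.h w w = 0), H.h v w = 1 →
      hS.tv hv * hS.tv hw * hS.tv hv = hS.tv hw * hS.tv hv * hS.tv hw := by
    intro v w hv hw h
    have h' : H.h w v = 1 := by rw [H.symm, h, map_one]
    refine H.sisom_ext fun x => ?_
    simp only [HermSpace.smul_mul_apply, tv_apply, H.add_left, H.smul_left, hv, hw, h, h', mul_one, mul_zero,
      add_zero, add_smul]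
    match_scalars <;> ring_nf <;> simp [hS.two, hS.three, hS.four, hS.five]
  have bac := braid haa hcc hac
  have bcb := braid hcc hbb hcb
  have bbd := braid hbb hdd hbd
  rw [← hta, ← htc] at bac
  rw [← htc, ← htb] at bcb
  rw [← htb, ← htd] at bbd
  have hTeq : T = R * (tb * ta) := by
    rw [hRdef]
    calc T = T * ta * (tb * tb) * ta := by rw [sq hbb, mul_one, mul_assoc, sq haa, mul_one]
      _ = _ := by simp only [mul_assoc]
  set g := ta * tc * tb * td with hg
  have i2 : ∀ {v : V} (hv : H.h v v = 0) (y : H.SIsom), hS.tv hv * (hS.tv hv * y) = y := fun {v} hv y => by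
    rw [← mul_assoc, sq hv, one_mul]
  have ginv : g⁻¹ = td * tb * tc * ta := by
    rw [hg]
    simp only [mul_inv_rev, inv_eq_of_mul_eq_one_right (sq haa), inv_eq_of_mul_eq_one_right (sq hbb),
      inv_eq_of_mul_eq_one_right (sq hcc), inv_eq_of_mul_eq_one_right (sq hdd), hta, htb, htc, htd, mul_assoc]
  have hga : g * ta * g⁻¹ = tc := by
    rw [ginv, hg]
    calc ta * tc * tb * td * ta * (td * tb * tc * ta)
        = ta * tc * (tb * ((td * ta) * (td * (tb * (tc * ta))))) := by simp only [mul_assoc]
      _ = ta * tc * (tb * ((ta * td) * (td * (tb * (tc * ta))))) := by rw [cad.eq]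
      _ = ta * tc * (tb * (ta * (tb * (tc * ta)))) := by simp only [mul_assoc, htd, i2]
      _ = ta * tc * ((ta * tb) * (tb * (tc * ta))) := by rw [cab.eq]; simp only [mul_assoc]
      _ = ta * ((tc * ta * tc) * ta) := by simp only [mul_assoc, htb, i2]
      _ = ta * ((ta * tc * ta) * ta) := by rw [bac]
      _ = tc := by simp only [mul_assoc, hta, i2, sq haa, mul_one]
  have hgb : g * tb * g⁻¹ = td := by
    rw [ginv, hg]
    calc ta * tc * tb * td * tb * (td * tb * tc * ta)
        = ta * tc * (tb * ((td * tb * td) * (tb * (tc * ta)))) := by simp only [mul_assoc]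
      _ = ta * tc * (tb * ((tb * td * tb) * (tb * (tc * ta)))) := by rw [bbd]
      _ = ta * ((tc * td) * (tc * ta)) := by simp only [mul_assoc, htb, i2]
      _ = ta * ((td * tc) * (tc * ta)) := by rw [ccd.eq]
      _ = (ta * td) * ta := by simp only [mul_assoc, htc, i2]
      _ = td := by rw [cad.eq]; simp only [mul_assoc, hta, sq haa, mul_one]
  have hgR : g * R * g⁻¹ = R := by
    rw [((((cRa.mul_right cRc).mul_right cRb).mul_right cRd).symm : Commute g R).eq, mul_inv_cancel_right]
  have hT' : g * T * g⁻¹ = R * (td * tc) := by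
    rw [hTeq]
    calc g * (R * (tb * ta)) * g⁻¹ = (g * R * g⁻¹) * ((g * tb * g⁻¹) * (g * ta * g⁻¹)) := by group
      _ = _ := by rw [hgR, hga, hgb]
  have hRR : R * R = 1 := by
    have hcT : Commute R T := hTeq ▸ (Commute.refl R).mul_right (cRb.mul_right cRa)
    have : T * T = R * R * ((tb * ta) * (tb * ta)) := by
      conv_lhs => rw [hTeq]
      exact ((cRb.mul_right cRa).symm).mul_mul_mul_comm R (tb * ta)
    rw [hT, ← cab.symm.mul_mul_mul_comm tb ta, htb, hta, sq hbb, sq haa, mul_one, mul_one] at this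
    exact this.symm
  have hM : T * (g * T * g⁻¹) = (tb * ta) * (td * tc) := by
    rw [hT', hTeq, ((cRb.mul_right cRa).symm : Commute (tb * ta) R).mul_mul_mul_comm R (td * tc), hRR, one_mul]
  refine ⟨g, fun z hz => ?_⟩
  rw [hM]
  set M := tb * ta * (td * tc) with hMdef
  have hMa : M.1.1 a = b + c := by
    simp only [hMdef, HermSpace.smul_mul_apply, htb, hta, htc, htd, tv_apply, H.add_left, H.smul_left, map_add,
      map_smul, haa, hab, hac, had, hbb, hba, hbc, hbd, hca, hcb, hcc, hcd, hda, hdb, hdc, hdd, mul_one, mul_zero,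
      one_smul, zero_smul, add_zero, zero_add]
    match_scalars <;> ring_nf <;> simp [hS.two, hS.three, hS.four, hS.five]
  have hMb : M.1.1 b = a + b + c + d := by
    simp only [hMdef, HermSpace.smul_mul_apply, htb, hta, htc, htd, tv_apply, H.add_left, H.smul_left, map_add,
      map_smul, haa, hab, hac, had, hbb, hba, hbc, hbd, hca, hcb, hcc, hcd, hda, hdb, hdc, hdd, mul_one, mul_zero,
      one_smul, zero_smul, add_zero, zero_add]
    match_scalars <;> ring_nf <;> simp [hS.two, hS.three, hS.four, hS.five]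
  have hMc : M.1.1 c = a + b + c := by
    simp only [hMdef, HermSpace.smul_mul_apply, htb, hta, htc, htd, tv_apply, H.add_left, H.smul_left, map_add,
      map_smul, haa, hab, hac, had, hbb, hba, hbc, hbd, hca, hcb, hcc, hcd, hda, hdb, hdc, hdd, mul_one, mul_zero,
      one_smul, zero_smul, add_zero, zero_add]
    match_scalars <;> ring_nf <;> simp [hS.two, hS.three, hS.four, hS.five]
  have hMd : M.1.1 d = d + b := by
    simp only [hMdef, HermSpace.smul_mul_apply, htb, hta, htc, htd, tv_apply, H.add_left, H.smul_left, map_add,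
      map_smul, haa, hab, hac, had, hbb, hba, hbc, hbd, hca, hcb, hcc, hcd, hda, hdb, hdc, hdd, mul_one, mul_zero,
      one_smul, zero_smul, add_zero, zero_add]
  have h2a : (M ^ 2).1.1 a = d := by
    rw [pow_two, HermSpace.smul_mul_apply, hMa, map_add, hMb, hMc]
    match_scalars <;> ring_nf <;> simp [hS.two, hS.three, hS.four, hS.five]
  have h3a : (M ^ 3).1.1 a = d + b := by rw [pow_succ', HermSpace.smul_mul_apply, h2a, hMd]
  obtain ⟨k, -, hk⟩ := hS.center_scalar hz
  constructor
  · intro e
    have h := congrArg (fun y => H.h y b) (h2a.symm.trans (e ▸ hk a))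
    simp only [H.smul_left, hdb, hab, mul_zero] at h
    exact one_ne_zero h
  · intro e
    have h := congrArg (fun y => H.h y b) (h3a.symm.trans (e ▸ hk a))
    simp only [H.smul_left, H.add_left, hdb, hbb, hab, mul_zero, add_zero] at h
    exact one_ne_zero h

/-- The image of the transvections is the only class of 3-transpositions of the quotient by the centre. -/
theorem class_eq [Finite F] {Q : Type w} [Group Q] (π : H.SIsom →* Q) (hπ : Function.Surjective π)
    (hker : π.ker = center H.SIsom) {S : Set Q} (hC : IsThreeTranspositionClass S) : S = π '' H.oneTransv := by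
  haveI := hS.fd
  obtain ⟨s, hs, hSs⟩ := hC.2.1
  obtain ⟨T₀, hT₀⟩ := hπ s
  have hs2 : s * s = 1 := sq_eq_one hC.1 hs
  have hz : T₀ ^ 2 ∈ center H.SIsom := by
    rw [← hker, MonoidHom.mem_ker, map_pow, hT₀, sq, hs2]
  obtain ⟨k, hk, hk6, hkx⟩ := (H.mem_center_SIsom_iff (by rw [hS.dim]; norm_num)).1 hz
  have hk0 : k ≠ 0 := left_ne_zero_of_mul_eq_one hk
  have hk3 : k * k * k = 1 := by
    rw [hS.dim] at hk6
    have h3 : (k * k * k + 1) * (k * k * k + 1) = 0 := by
      linear_combination hk6 + (k * k * k + 1) * hS.two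
    linear_combination mul_self_eq_zero.mp h3 - hS.two
  set T := T₀ ^ 3 with hTdef
  have hT : T * T = 1 := by
    rw [hTdef, ← pow_add, show (3 + 3) = 2 * 3 by rfl, pow_mul]
    refine H.sisom_ext fun x => ?_
    simp only [pow_succ, pow_zero, one_mul, HermSpace.smul_mul_apply] at hkx ⊢
    simp only [hkx, map_smul, smul_smul]
    rw [hk3, one_smul]
    rfl
  have hπT : π T = s := by rw [hTdef, map_pow, hT₀, pow_succ, sq, hs2, one_mul]
  have hTmem : T ∈ H.oneTransv := by
    by_contra hnT
    have hT1 : T ≠ 1 := fun e => by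
      have h2 := hC.1.1 s hs
      rw [← hπT, e, map_one, orderOf_one] at h2
      norm_num at h2
    obtain ⟨g, hg⟩ := hS.exists_bad_conjugate hT hT1 hnT
    have hs' : π (g * T * g⁻¹) ∈ S := by
      rw [map_mul, map_mul, map_inv, hπT]; exact conj_mem hC (π g) hs
    rcases hC.1.2 s hs _ hs' with h | h
    · rw [← hπT, ← map_mul, ← map_pow, ← MonoidHom.mem_ker, hker] at h
      exact (hg _ h).1 rfl
    · rw [← hπT, ← map_mul, ← map_pow, ← MonoidHom.mem_ker, hker] at h
      exact (hg _ h).2 rfl
  ext q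
  constructor
  · intro hq
    obtain ⟨u, rfl⟩ := exists_conj hC hs hq
    obtain ⟨g, rfl⟩ := hπ u
    exact ⟨g * T * g⁻¹, conj_mem hS.cls g hTmem, by rw [map_mul, map_mul, map_inv, hπT]⟩
  · rintro ⟨t, ht, rfl⟩
    obtain ⟨g, rfl⟩ := exists_conj hS.cls hTmem ht
    rw [map_mul, map_mul, map_inv, hπT]
    exact conj_mem hC (π g) hs

theorem tv_image_commute_iff [Finite F] {Q : Type w} [Group Q] (π : H.SIsom →* Q)
    (hker : π.ker = center H.SIsom) {v w : V} (hv : H.h v v = 0) (hw : H.h w w = 0) (hv0 : v ≠ 0) :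
    Commute (π (hS.tv hv)) (π (hS.tv hw)) ↔ H.h v w = 0 := by
  refine ⟨fun h => ?_, fun h => (hS.tv_commute hv hw h).map π⟩
  by_contra hne
  have hmem : (hS.tv hw * hS.tv hv)⁻¹ * (hS.tv hv * hS.tv hw) ∈ center H.SIsom := by
    rw [← hker, MonoidHom.mem_ker, map_mul, map_inv, map_mul, map_mul, h.eq, inv_mul_cancel]
  obtain ⟨k, -, hk⟩ := hS.center_scalar hmem
  have h1 : hS.tv hv * hS.tv hw = hS.tv hw * hS.tv hv * ((hS.tv hw * hS.tv hv)⁻¹ * (hS.tv hv * hS.tv hw)) := by
    group
  have h2 := congrArg (fun t : H.SIsom => t.1.1 v) h1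
  set m := (hS.tv hw * hS.tv hv)⁻¹ * (hS.tv hv * hS.tv hw) with hm
  clear_value m
  set e := H.h v w with he
  have hwv : H.h w v = H.σ e := by rw [he, ← H.symm]
  have hN := hS.norm e hne
  rw [HermSpace.smul_mul_apply, HermSpace.smul_mul_apply, HermSpace.smul_mul_apply, hk v, map_smul, map_smul,
    hS.tv_apply hw v, hS.tv_apply hv (v + _), hS.tv_apply hv v, hv, zero_smul, add_zero, hS.tv_apply hw v,
    ← he, H.add_left, H.smul_left, hv, hwv, hN, zero_add, one_smul] at h2
  have h3 := congrArg (fun t => H.h t v) h2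
  simp only [H.add_left, H.smul_left, hv, hwv, add_zero, zero_add] at h3
  rw [hN, mul_one] at h3
  rw [← h3, one_smul] at h2
  exact hv0 (add_eq_left.1 h2)

theorem tv_image_eq_iff [Finite F] {Q : Type w} [Group Q] (π : H.SIsom →* Q) (hker : π.ker = center H.SIsom)
    {v w : V} (hv : H.h v v = 0) (hw : H.h w w = 0) (hv0 : v ≠ 0) :
    π (hS.tv hv) = π (hS.tv hw) ↔ ∃ a : F, a ≠ 0 ∧ v = a • w := by
  constructor
  · intro h
    have hvw : H.h v w = 0 := (hS.tv_image_commute_iff π hker hv hw hv0).1 (h ▸ Commute.refl _)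
    have hmem : (hS.tv hw)⁻¹ * hS.tv hv ∈ center H.SIsom := by
      rw [← hker, MonoidHom.mem_ker, map_mul, map_inv, h, inv_mul_cancel]
    obtain ⟨k, -, hk⟩ := hS.center_scalar hmem
    have h1 : ∀ x, (hS.tv hv).1.1 x = k • (hS.tv hw).1.1 x := fun x => by
      rw [← map_smul, ← hk, ← HermSpace.smul_mul_apply, mul_inv_cancel_left]
    have h2 := h1 v
    rw [hS.tv_apply, hS.tv_apply, hv, hvw, zero_smul, zero_smul, add_zero] at h2
    have hk1 : k = 1 := by
      have := sub_eq_zero.2 h2
      rw [show v - k • v = (1 - k) • v by module, smul_eq_zero] at this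
      exact (sub_eq_zero.1 (this.resolve_right hv0)).symm
    haveI := hS.fd
    obtain ⟨u, hu⟩ := H.exists_partner hv0
    have h3 := h1 u
    rw [hS.tv_apply, hS.tv_apply, hk1, one_smul, H.symm u v, hu, map_one, one_smul, add_right_inj] at h3
    exact ⟨_, fun e => hv0 (by rw [h3, e, zero_smul]), h3⟩
  · rintro ⟨a, ha, rfl⟩
    rw [hS.tv_smul hw ha hv]

/-- The isotropic vectors orthogonal to a totally isotropic line span everything orthogonal to it. -/
theorem mem_span_of_double_perp [Finite F] {x y w : V} (hxx : H.h x x = 0) (hyy : H.h y y = 0) (hxy : H.h x y = 0)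
    (h : ∀ u, H.h u u = 0 → H.h u x = 0 → H.h u y = 0 → H.h u w = 0) :
    w ∈ Submodule.span F ({x, y} : Set V) := by
  classical
  haveI := hS.fd
  set W := Submodule.span F ({x, y} : Set V) with hW
  rw [← H.orth_orth W]
  intro v hv
  refine H.eq_zero_symm ?_
  have hvx : H.h v x = 0 := hv x (Submodule.subset_span (by simp))
  have hvy : H.h v y = 0 := hv y (Submodule.subset_span (by simp))
  by_cases hvv : H.h v v = 0
  · exact h v hvv hvx hvy
  have hv1 := hS.self_eq_one hvv
  set W' := Submodule.span F (↑({v, x, y} : Finset V) : Set V) with hW'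
  have hsub : ∀ z ∈ ({v, x, y} : Finset V), z ∈ W' := fun z hz => Submodule.subset_span hz
  have hW'3 : Module.finrank F W' ≤ 3 := (finrank_span_finset_le_card _).trans Finset.card_le_three
  set U := H.orth W' with hU
  have hU3 : 3 ≤ Module.finrank F U := by rw [hU, H.finrank_orth, hS.dim]; omega
  obtain ⟨m, hm, hmm⟩ : ∃ m ∈ U, H.h m m ≠ 0 := by
    by_contra hc
    push Not at hc
    obtain ⟨θ, hθ⟩ := H.conj.exists_trace_one
    have hle : U ≤ W' := by
      rw [← H.orth_orth W']
      intro p hp q hq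
      by_contra hne
      have := hc ((θ * (H.h p q)⁻¹) • p + q) (U.add_mem (U.smul_mem _ hp) hq)
      simp only [H.add_left, H.add_right, H.smul_left, H.smul_right, hc p hp, hc q hq, map_mul, map_inv₀,
        ← H.symm, mul_zero, zero_add, add_zero] at this
      rw [H.symm q p] at this
      refine one_ne_zero (show (1 : F) = 0 from ?_)
      linear_combination this - hθ - θ * inv_mul_cancel₀ hne -
        H.σ θ * inv_mul_cancel₀ (a := H.σ (H.h p q)) ((map_ne_zero _).2 hne)
    have heq := Submodule.eq_of_le_of_finrank_le hle (hW'3.trans hU3)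
    exact hvv (hc v (heq.symm ▸ hsub v (by simp)))
  have hmv : H.h m v = 0 := hm v (hsub v (by simp))
  have hmx : H.h m x = 0 := hm x (hsub x (by simp))
  have hmy : H.h m y = 0 := hm y (hsub y (by simp))
  have hm1 := hS.self_eq_one hmm
  have key : ∀ a : F, a ≠ 0 → H.h v w + a * H.h m w = 0 := by
    intro a ha
    have := h (v + a • m) ?_ ?_ ?_
    · rwa [H.add_left, H.smul_left] at this
    · simp only [H.add_left, H.add_right, H.smul_left, H.smul_right, hv1, hm1, hmv, H.eq_zero_symm hmv,
        mul_one, mul_zero, add_zero, zero_add]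
      rw [hS.norm a ha, hS.add_self]
    · rw [H.add_left, H.smul_left, hvx, hmx, mul_zero, add_zero]
    · rw [H.add_left, H.smul_left, hvy, hmy, mul_zero, add_zero]
  obtain ⟨θ, hθ⟩ := H.conj.exists_trace_one
  have hθ1 : θ ≠ 1 := fun e => by rw [e, map_one, hS.add_self] at hθ; exact zero_ne_one hθ
  have hθ0 : θ ≠ 0 := fun e => by rw [e, map_zero, zero_add] at hθ; exact zero_ne_one hθ
  have k1 := key 1 one_ne_zero
  have k2 := key θ hθ0
  have : (θ - 1) * H.h m w = 0 := by linear_combination k2 - k1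
  have hmw := (mul_eq_zero.1 this).resolve_left (sub_ne_zero.2 hθ1)
  linear_combination k1 - hmw

/-- The five transvections of a totally isotropic line. -/
theorem lineProp [Finite F] {Q : Type w} [Group Q] (π : H.SIsom →* Q) (hπ : Function.Surjective π)
    (hker : π.ker = center H.SIsom) (h4 : Nat.card F = 4) {S : Set Q} (hC : IsThreeTranspositionClass S) :
    LineProp S := by
  classical
  haveI := hS.fd
  rw [hS.class_eq π hπ hker hC]
  rintro _ ⟨_, htx, rfl⟩ _ ⟨_, hty, rfl⟩ hne hcomm
  obtain ⟨x, hx, hx0, rfl⟩ := hS.exists_tv htx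
  obtain ⟨y, hy, hy0, rfl⟩ := hS.exists_tv hty
  have hxy : H.h x y = 0 := (hS.tv_image_commute_iff π hker hx hy hx0).1 hcomm
  have hyx : H.h y x = 0 := H.eq_zero_symm hxy
  have hind : ∀ α β : F, α • x + β • y = 0 → α = 0 ∧ β = 0 := by
    intro α β h
    by_cases hα : α = 0
    · refine ⟨hα, ?_⟩
      rw [hα, zero_smul, zero_add] at h
      exact (smul_eq_zero.1 h).resolve_right hy0
    · refine absurd ?_ hne
      have hxe : x = (-(α⁻¹ * β)) • y := by
        have e2 : α⁻¹ • (α • x + β • y) = 0 := by rw [h, smul_zero]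
        rw [smul_add, smul_smul, smul_smul, inv_mul_cancel₀ hα, one_smul] at e2
        rw [neg_smul]
        exact eq_neg_of_add_eq_zero_left e2
      exact (hS.tv_image_eq_iff π hker hx hy hx0).2 ⟨_, fun e => hx0 (by rw [hxe, e, zero_smul]), hxe⟩
  obtain ⟨ω, hω⟩ := H.conj.exists_trace_one
  have hω0 : ω ≠ 0 := fun e => by rw [e, map_zero, zero_add] at hω; exact zero_ne_one hω
  have hω1 : ω ≠ 1 := fun e => by rw [e, map_one, hS.add_self] at hω; exact zero_ne_one hω
  have hσω : H.σ ω = ω + 1 := by linear_combination hω - ω * hS.two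
  have hωω : ω * ω = ω + 1 := by
    have := hS.norm ω hω0
    rw [hσω] at this
    linear_combination this - (ω + 0) * hS.two
  have hω10 : ω + 1 ≠ 0 := fun e => hω1 (by linear_combination e - hS.two)
  have hω11 : ω + 1 ≠ 1 := fun e => hω0 (by linear_combination e)
  have hω1ω : ω + 1 ≠ ω := fun e => one_ne_zero (α := F) (by linear_combination e)
  have hall : ∀ a : F, a = 0 ∨ a = 1 ∨ a = ω ∨ a = ω + 1 := by
    haveI := Fintype.ofFinite F
    intro a
    have : ({0, 1, ω, ω + 1} : Finset F) = Finset.univ := by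
      refine Finset.eq_univ_of_card _ ?_
      rw [← Nat.card_eq_fintype_card, h4, Finset.card_insert_of_notMem, Finset.card_insert_of_notMem,
        Finset.card_insert_of_notMem, Finset.card_singleton] <;>
        simp [eq_comm, hω0, hω1, hω10, hω11, hω1ω, Ne.symm hω10, Ne.symm hω11, Ne.symm hω1ω, Ne.symm hω0, Ne.symm hω1]
    simpa [← this] using Finset.mem_univ a
  have hiso : ∀ α β : F, H.h (α • x + β • y) (α • x + β • y) = 0 := fun α β => by
    simp only [H.add_left, H.add_right, H.smul_left, H.smul_right, hx, hy, hxy, hyx, mul_zero, add_zero]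
  have hne0 : ∀ α β : F, α ≠ 0 ∨ β ≠ 0 → α • x + β • y ≠ 0 := fun α β h e => by
    obtain ⟨h1, h2⟩ := hind α β e
    exact h.elim (fun k => k h1) fun k => k h2
  set P : F → Q := fun β => π (hS.tv (hiso 1 β)) with hP
  refine ⟨[π (hS.tv hy), P 0, P 1, P ω, P (ω + 1)], ?_, rfl, fun q => ?_, ?_⟩
  · have hPinj : ∀ β β', P β = P β' → β = β' := by
      intro β β' h
      obtain ⟨a, -, ha⟩ := (hS.tv_image_eq_iff π hker _ _ (hne0 1 β (Or.inl one_ne_zero))).1 h
      obtain ⟨h1, h2⟩ := hind (1 - a) (β - a * β') (by linear_combination (norm := module) ha)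
      linear_combination h2 - β' * h1
    have hPy : ∀ β, π (hS.tv hy) ≠ P β := by
      intro β h
      obtain ⟨a, ha0, ha⟩ := (hS.tv_image_eq_iff π hker hy _ hy0).1 h
      obtain ⟨h1, -⟩ := hind a (a * β - 1) (by linear_combination (norm := module) -ha)
      exact ha0 h1
    have hne' : ∀ {β β'}, β ≠ β' → P β ≠ P β' := fun h e => h (hPinj _ _ e)
    simp [hPy, hne' (zero_ne_one (α := F)), hne' (Ne.symm hω0), hne' (Ne.symm hω10), hne' (Ne.symm hω1),
      hne' (Ne.symm hω11), hne' (Ne.symm hω1ω)]
  · have hP0 : π (hS.tv hx) = P 0 := congrArg π (hS.tv_congr hx _ (by module))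
    have hin : ∀ α β : F, α ≠ 0 ∨ β ≠ 0 →
        π (hS.tv (hiso α β)) ∈ [π (hS.tv hy), P 0, P 1, P ω, P (ω + 1)] := by
      intro α β h
      by_cases hα : α = 0
      · have e : π (hS.tv (hiso α β)) = π (hS.tv hy) :=
          (hS.tv_image_eq_iff π hker _ hy (hne0 α β h)).2 ⟨β, h.resolve_left fun k => k hα, by rw [hα]; module⟩
        simp [e]
      · have e : π (hS.tv (hiso α β)) = P (α⁻¹ * β) :=
          (hS.tv_image_eq_iff π hker _ _ (hne0 α β h)).2 ⟨α, hα, by
            rw [smul_add, smul_smul, smul_smul, mul_one, ← mul_assoc, mul_inv_cancel₀ hα, one_mul]⟩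
        rcases hall (α⁻¹ * β) with h' | h' | h' | h' <;> simp [e, h']
    constructor
    · intro hq
      have hmem : ∀ α β : F, (α ≠ 0 ∨ β ≠ 0) →
          π (hS.tv (hiso α β)) ∈ dperp (π '' H.oneTransv) (π (hS.tv hx)) (π (hS.tv hy)) := by
        intro α β hab
        refine ⟨⟨_, hS.tv_mem _ (hne0 α β hab), rfl⟩, ?_⟩
        rintro _ ⟨_, huT, rfl⟩ hux huy
        obtain ⟨u, hu, hu0, rfl⟩ := hS.exists_tv huT
        refine (hS.tv_commute hu _ ?_).map π
        rw [H.add_right, H.smul_right, H.smul_right, (hS.tv_image_commute_iff π hker hu hx hu0).1 hux,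
          (hS.tv_image_commute_iff π hker hu hy hu0).1 huy, mul_zero, mul_zero, add_zero]
      have hyp : π (hS.tv (hiso 0 1)) = π (hS.tv hy) := congrArg π (hS.tv_congr _ hy (by module))
      simp only [List.mem_cons, List.not_mem_nil, or_false] at hq
      rcases hq with rfl | rfl | rfl | rfl | rfl
      · exact hyp ▸ hmem 0 1 (Or.inr one_ne_zero)
      all_goals exact hmem 1 _ (Or.inl one_ne_zero)
    · rintro ⟨⟨_, hwT, rfl⟩, hw'⟩
      obtain ⟨w, hw, hw0, rfl⟩ := hS.exists_tv hwT
      have hspan := hS.mem_span_of_double_perp (w := w) hx hy hxy fun u hu hux huy => by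
        rcases eq_or_ne u 0 with rfl | hu0
        · exact H.zero_left w
        exact (hS.tv_image_commute_iff π hker hu hw hu0).1
          (hw' _ ⟨_, hS.tv_mem hu hu0, rfl⟩ ((hS.tv_commute hu hx hux).map π) ((hS.tv_commute hu hy huy).map π))
      obtain ⟨α, β, rfl⟩ := Submodule.mem_span_pair.1 hspan
      refine hin α β ?_
      by_contra h
      push Not at h
      rw [h.1, h.2, zero_smul, zero_smul, add_zero] at hw0
      exact hw0 rfl
  · simp only [hP, List.prod_cons, List.prod_nil, mul_one, ← map_mul]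
    rw [← π.map_one]
    congr 1
    refine H.sisom_ext fun z => ?_
    simp only [HermSpace.smul_mul_apply, hS.tv_apply, H.add_left, H.smul_left, H.add_right, H.smul_right, map_one,
      map_zero, map_add, hσω, hx, hy, hxy, hyx, mul_zero, zero_mul, one_mul, mul_one, add_zero, zero_add, zero_smul,
      one_smul, smul_add, smul_smul]
    show _ = z
    match_scalars
    all_goals ring_nf
    all_goals simp [show ω ^ 2 = ω + 1 from (sq ω).trans hωω, hS.two, hS.three, hS.four, hS.five]
    all_goals ring_nf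
    all_goals simp [hS.two, hS.three, hS.four, hS.five]

end IsSixSpace

/-- A class of 3-transpositions in a group isomorphic to `PSU(6, 2)` has the line property. -/
theorem lineProp_of_psu {F : Type u} [Field F] [Fintype F] (hF : Fintype.card F = 4) {Q : Type w} [Group Q]
    (e : Q ≃* Cfsg.PSU 6 F 2) {S : Set Q} (hC : IsThreeTranspositionClass S) : LineProp S := by
  classical
  have hF' : Fintype.card F = 2 ^ 2 := by rw [hF]; norm_num
  have h2 : (2 : F) = 0 := by
    haveI := CharP.exists F
    obtain ⟨p, hp⟩ := CharP.exists F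
    obtain ⟨m, hpp, hm⟩ := FiniteField.card F p
    rw [hF] at hm
    have hp2 : p = 2 := by
      have hd : p ∣ 2 ^ 2 := by rw [show 2 ^ 2 = 4 by norm_num, hm]; exact dvd_pow_self p m.ne_zero
      exact (Nat.prime_dvd_prime_iff_eq hpp Nat.prime_two).mp (hpp.dvd_of_dvd_pow hd)
    subst hp2
    exact_mod_cast CharP.cast_eq_zero F 2
  have hS : IsSixSpace (stdHerm 6 hF') := ⟨h2, fun a ha => by
    show a * powConj hF' a = 1
    rw [powConj_apply, ← pow_succ', show 2 + 1 = Fintype.card F - 1 by omega]
    exact FiniteField.pow_card_sub_one_eq_one a ha, Module.finrank_fin_fun F⟩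
  set π : (stdHerm 6 hF').SIsom →* Q :=
    e.symm.toMonoidHom.comp ((QuotientGroup.mk' (center (Cfsg.SU 6 F 2))).comp (suEquiv 6 hF').toMonoidHom) with hπ
  refine hS.lineProp π ?_ ?_ (by rw [Nat.card_eq_fintype_card, hF]) hC
  · exact e.symm.surjective.comp ((QuotientGroup.mk'_surjective _).comp (suEquiv 6 hF').surjective)
  · ext t
    rw [hπ, MonoidHom.mem_ker, MonoidHom.comp_apply, MonoidHom.comp_apply]
    simp only [MulEquiv.coe_toMonoidHom, map_eq_one_iff _ e.symm.injective, QuotientGroup.mk'_apply,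
      QuotientGroup.eq_one_iff, mem_center_iff]
    constructor
    · intro h u
      exact (suEquiv 6 hF').injective (by rw [map_mul, map_mul]; exact h _)
    · intro h u
      obtain ⟨u, rfl⟩ := (suEquiv 6 hF').surjective u
      rw [← map_mul, ← map_mul, h u]

end Cfsg.Lib.ThreeTr
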